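import Cfsg.Agent.H20.U3Syl
import Cfsg.Agent.H41.Frob2Alg

/-! Automorphisms of a Sylow 2-subgroup of `SU₃(2ⁿ)`. -/

set_option autoImplicit false

namespace Cfsg.Agent.H42

open Subgroup Cfsg.Agent.H41 Cfsg.Agent.H10 Finset

theorem quad_zero {F : Type*} [Field F] [Fintype F] [CharP F 2] {m : ℕ} [NeZero m]
    (hF : Fintype.card F = 2 ^ m) {a : ZMod m → ZMod m → F}
    (h : ∀ x, ∑ i, ∑ j, a i j * (fr i x * fr j x) = 0) : (∀ i j, a i j = a j i) ∧ ∀ i, a i i = 0 := by
  have hs : ∀ i j, a i j = a j i := coeff_fr_unique₂ hF (d := fun i j => a j i) fun x y => by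
    have h1 := h (x + y)
    simp only [fr_add, mul_add, add_mul, sum_add_distrib, h, zero_add, add_zero] at h1
    rw [CharTwo.add_eq_zero.mp h1 |>.symm, sum_comm]
    exact sum_congr rfl fun i _ => sum_congr rfl fun j _ => by ring
  refine ⟨hs, fun i => ?_⟩
  have := coeff_fr_eq_zero hF (c := fun i => a (i - 1) (i - 1)) (fun x => ?_) (i + 1)
  · simpa using this
  rw [← sum_fr_shift hF (fun i => a i i), ← h x, ← sum_product',
    ← sum_filter_add_sum_filter_not _ (fun p : ZMod m × ZMod m => p.1 = p.2),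
    sum_involution (s := filter (fun p : ZMod m × ZMod m => ¬ p.1 = p.2) _) (fun p _ => p.swap),
    add_zero]
  · refine sum_bij (fun i _ => (i, i)) (by simp) (by simp) ?_ (by simp)
    rintro ⟨i, j⟩ h
    exact ⟨i, mem_univ _, Prod.ext rfl (mem_filter.mp h).2⟩
  · rintro ⟨i, j⟩ _
    simp only [Prod.swap]
    rw [hs j i, mul_comm (fr j x), CharTwo.add_self_eq_zero]
  · exact fun p h _ h2 => (mem_filter.mp h).2 (congrArg Prod.snd h2)
  · exact fun p h => mem_filter.mpr ⟨by simp, fun e => (mem_filter.mp h).2 e.symm⟩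
  · exact fun _ _ => rfl

variable {F : Type*} [Field F] [Fintype F] {q : ℕ} [hF : Fact (Fintype.card F = q ^ 2)] [CharP F 2]
  {n : ℕ} [NeZero n] (hq : q = 2 ^ n)

local notation "σ" => H10.cj F q

include hq

omit [CharP F 2] [NeZero n] [Field F] in
theorem card_two_mul : Fintype.card F = 2 ^ (2 * n) := by rw [hF.out, hq, ← pow_mul, mul_comm]

omit [CharP F 2] [NeZero n] in
theorem cj_eq_fr (x : F) : σ x = fr (n : ZMod (2 * n)) x := by
  rw [fr_natCast (card_two_mul hq), cj_apply, hq]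

omit hq [NeZero n] in
theorem nu_add_nu : (n : ZMod (2 * n)) + n = 0 := by
  rw [← Nat.cast_add, ← two_mul, ZMod.natCast_self]

omit hq in
theorem nu_ne_zero : (n : ZMod (2 * n)) ≠ 0 := fun e => by
  have := Nat.le_of_dvd (NeZero.pos n) ((ZMod.natCast_eq_zero_iff _ _).mp e)
  have := NeZero.pos n
  omega

/-- Additive maps compatible with the norm are semilinear. -/
theorem norm_rigid {g h : F → F} (hg : ∀ x y, g (x + y) = g x + g y) (hh : ∀ x y, h (x + y) = h x + h y)
    (e : ∀ x, σ (g x) * g x = h (σ x * x)) : ∃ (c : F) (i : ZMod (2 * n)), ∀ x, g x = c * fr i x := by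
  have hK := card_two_mul (F := F) hq
  obtain ⟨u, hu⟩ := exists_eq_sum_fr hK hg
  obtain ⟨w, hw⟩ := exists_eq_sum_fr hK hh
  obtain ⟨h1, h2⟩ := quad_zero hK (a := fun i j => u i * σ (u (j + n)) + if j = i + n then w i else 0)
    fun x => by
      have e1 : σ (g x) = ∑ j, σ (u (j + n)) * fr j x := by
        rw [hu, map_sum, ← Equiv.sum_comp (Equiv.addRight (n : ZMod (2 * n)))]
        refine sum_congr rfl fun j _ => ?_
        rw [map_mul, cj_eq_fr hq (fr _ _), fr_fr hK, Equiv.coe_addRight, add_left_comm, nu_add_nu,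
          add_zero]
      simp only [add_mul, sum_add_distrib, ite_mul, zero_mul, sum_ite_eq', mem_univ, if_true]
      refine CharTwo.add_eq_zero.mpr (Eq.trans ?_ ((e x).trans ((hw _).trans ?_)))
      · rw [e1, mul_comm _ (g x), hu, sum_mul_sum]
        exact sum_congr rfl fun i _ => sum_congr rfl fun j _ => by ring
      · exact sum_congr rfl fun i _ => by rw [fr_mul, cj_eq_fr hq, fr_fr hK, mul_comm (fr i x)]
  by_cases h0 : ∀ i, u i = 0
  · exact ⟨0, 0, fun x => by simp [hu, h0]⟩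
  obtain ⟨i, hi⟩ := not_forall.mp h0
  refine ⟨u i, i, fun x => (hu x).trans (sum_eq_single i (fun j _ hj => ?_) (by simp))⟩
  have h3 := h2 i
  rw [if_neg (by simpa using nu_ne_zero), add_zero, mul_eq_zero_iff_left hi] at h3
  have h4 := h1 i (j + n)
  rw [if_neg (by simpa using hj), if_neg (by rw [add_assoc, nu_add_nu, add_zero]; exact hj.symm), h3,
    add_assoc, nu_add_nu, add_zero, add_zero, mul_zero, add_zero, mul_eq_zero_iff_left hi,
    cj_eq_zero] at h4
  rw [h4, zero_mul]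

omit hq [CharP F 2] in
theorem aut_x_zero (φ : MulAut (UM F q)) {a : UM F q} (ha : a.x = 0) : (φ a).x = 0 :=
  UM.mem_center_iff.mp (characteristic_iff_le_comap.mp inferInstance φ (UM.mem_center_iff.mpr ha))

omit hq [CharP F 2] in
theorem aut_x_congr (φ : MulAut (UM F q)) {a b : UM F q} (h : a.x = b.x) : (φ a).x = (φ b).x := by
  have := aut_x_zero φ (a := a⁻¹ * b) (by simp [h])
  rw [map_mul, map_inv, UM.mul_x, UM.inv_x] at this
  exact neg_add_eq_zero.mp this

theorem exists_aut_x (φ : MulAut (UM F q)) :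
    ∃ (c : F) (i : ZMod (2 * n)), c ≠ 0 ∧ ∀ a, (φ a).x = c * fr i a.x := by
  choose s hs using UM.exists_x (F := F) (q := q)
  obtain ⟨δ, hδ⟩ := exists_trace_eq_one F q
  let z : F → UM F q := fun y => ⟨0, δ * y + σ (δ * y), by
    rw [cj_trace, zero_mul, CharTwo.add_self_eq_zero]⟩
  obtain ⟨c, i, h⟩ := norm_rigid hq (g := fun x => (φ (s x)).x) (h := fun y => (φ (z y)).y)
    (fun x y => by rw [← UM.mul_x, ← map_mul]; exact aut_x_congr φ (by rw [UM.mul_x, hs, hs, hs]))
    (fun x y => by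
      rw [show z (x + y) = z x * z y from UM.ext (add_zero _).symm (by simp [z, mul_add]; ring),
        map_mul, UM.mul_y, aut_x_zero φ (a := z y) rfl, mul_zero, add_zero])
    fun x => by
      rw [← UM.sq_y, ← map_mul]
      refine congrArg (fun a => (φ a).y) (UM.ext (UM.sq_x _) ?_)
      simp only [z, UM.sq_y, hs, map_mul, H10.cj_cj]
      linear_combination (-(σ x * x)) * hδ
  have h1 : ∀ a, (φ a).x = c * fr i a.x := fun a => (aut_x_congr φ (hs _).symm).trans (h _)
  refine ⟨c, i, ?_, h1⟩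
  rintro rfl
  have := h1 (φ.symm (s 1))
  rw [MulEquiv.apply_symm_apply, hs, zero_mul] at this
  exact one_ne_zero this

omit hq in
theorem aut_fix_of_norm {φ : MulAut (UM F q)} (h : ∀ a, σ (φ a).x * (φ a).x = σ a.x * a.x)
    {a : UM F q} (ha : a.x = 0) : φ a = a := by
  obtain ⟨x, hx⟩ := exists_norm_eq (q := q) (t := a.y) (CharTwo.add_eq_zero.mp (by
    rw [a.h, ha, zero_mul])).symm
  obtain ⟨b, rfl⟩ := UM.exists_x (q := q) x
  obtain rfl : b * b = a := UM.ext ((UM.sq_x b).trans ha.symm) (by rw [UM.sq_y, mul_comm, hx])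
  rw [map_mul]
  exact UM.ext ((UM.sq_x _).trans (UM.sq_x _).symm) (by rw [UM.sq_y, UM.sq_y, h])

/-- An automorphism whose square is trivial modulo the centre fixes the centre. -/
theorem aut_fix_center {φ : MulAut (UM F q)} (h : ∀ a, (φ (φ a)).x = a.x) {a : UM F q}
    (ha : a.x = 0) : φ a = a := by
  have hK := card_two_mul (F := F) hq
  obtain ⟨c, i, h0, h1⟩ := exists_aut_x hq φ
  have h2 : ∀ x : F, c * fr i c * fr (i + i) x = x := fun x => by
    obtain ⟨b, rfl⟩ := UM.exists_x (q := q) x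
    rw [← fr_fr hK, mul_assoc, ← fr_mul, ← h1, ← h1, h]
  have h3 := h2 1
  rw [fr_one', mul_one] at h3
  obtain ⟨μ, hμ⟩ := exists_prim hK
  have h4 := fr_prim_inj hμ (i := i + i) (j := 0) (by rw [fr_zero, ← one_mul (fr _ μ), ← h3, h2])
  refine aut_fix_of_norm (fun b => ?_) ha
  rw [h1, map_mul]
  rcases (ZMod.neg_eq_self_iff i).mp (neg_eq_of_add_eq_zero_left h4) with e | e
  · rw [e, fr_zero] at h3
    obtain rfl : c = 1 := (mul_self_eq_one_iff.mp h3).elim id fun e => e.trans (CharTwo.neg_eq 1)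
    rw [e, fr_zero, map_one, one_mul, one_mul]
  · obtain rfl : i = n := by rw [← i.natCast_zmod_val, show i.val = n by omega]
    rw [← cj_eq_fr hq] at h3 ⊢
    rw [H10.cj_cj]
    linear_combination σ b.x * b.x * h3

omit [NeZero n] in
theorem sylow_SU_equiv (P : Sylow 2 (SU 3 F q)) : Nonempty (UM F q ≃* (P : Subgroup (SU 3 F q))) := by
  obtain ⟨e, w, f, hfr⟩ := H49.U3.exists_frame (E := F) (q := q)
  have h2 := two_le_q F q
  have hn : n ≠ 0 := by rintro rfl; omega
  have he : Even q := hq ▸ (Nat.even_pow.2 ⟨even_two, hn⟩)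
  have ho : Odd ((q ^ 2 - 1) * (q ^ 3 + 1)) :=
    (Nat.Even.sub_odd (Nat.one_le_pow _ _ (by omega)) (he.pow_of_ne_zero two_ne_zero) odd_one).mul
      (he.pow_of_ne_zero three_ne_zero).add_one
  have h1 := H20.card_psu3_mul (F := F) (q := q)
  rw [card_PSU_mul (by norm_num)] at h1
  obtain ⟨g⟩ := H43.sylow_equiv_of_card P (UM.emb hfr).range (by
    rw [← Nat.card_congr (MonoidHom.ofInjective (UM.emb_injective hfr)).toEquiv, UM.card,
      P.card_eq_multiplicity, h1, Nat.factorization_mul (by positivity) ho.pos.ne',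
      Finsupp.add_apply, Nat.factorization_eq_zero_of_not_dvd ho.not_two_dvd_nat, hq, ← pow_mul,
      Nat.prime_two.factorization_pow]
    simp)
  exact ⟨(MonoidHom.ofInjective (UM.emb_injective hfr)).trans g⟩

end Cfsg.Agent.H42
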